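import Mathlib
import Groth.Prelude.Def_CAlg
import Groth.Agent.Lib.Helper21.GrAddSub
import Groth.Agent.Lib.Helper21.GrCMVertex
import Groth.Agent.Lib.Helper7.CMInf
import Groth.Agent.S0320

/-! # Cohen–Macaulayness of graded quotients of polynomial rings through the depth of the
irrelevant ideal -/

set_option autoImplicit false

namespace Groth.Agent.Lib.Helper18.CMGraded

open MvPolynomial Groth.Agent.Lib.Helper21
open Groth.Agent.Lib.Helper21.DepthKit Groth.Agent.Lib.Helper2.R0S1 Groth.Agent.Lib.Helper12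
open Groth.Agent.Lib.Helper12.DepthBC
open scoped Pointwise

attribute [local instance] MvPolynomial.gradedAlgebra

universe u

section General

variable {A : Type u} [CommRing A] [IsNoetherianRing A] (𝔫 : Ideal A)

/-- Depth of `A/(I ∩ J)` from the depths of `A/I`, `A/J`, `A/(I+J)`. -/
theorem depth_inf (I J : Ideal A) (e : ℕ) (he : 1 ≤ e)
    (hI : (e : ℕ∞) ≤ LocCoh.idealDepth 𝔫 (A ⧸ I))
    (hJ : (e : ℕ∞) ≤ LocCoh.idealDepth 𝔫 (A ⧸ J))
    (hIJ : ((e - 1 : ℕ) : ℕ∞) ≤ LocCoh.idealDepth 𝔫 (A ⧸ (I ⊔ J))) :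
    (e : ℕ∞) ≤ LocCoh.idealDepth 𝔫 (A ⧸ (I ⊓ J)) := by
  have hprod := (Groth.Agent.S0321.result A 𝔫 (A ⧸ I) ((A ⧸ I) × (A ⧸ J)) (A ⧸ J)
    (LinearMap.inl A (A ⧸ I) (A ⧸ J)) (LinearMap.snd A (A ⧸ I) (A ⧸ J))
    LinearMap.inl_injective LinearMap.snd_surjective Function.Exact.inl_snd).1
  have hker := (Groth.Agent.S0321.result A 𝔫 (A ⧸ (I ⊓ J)) ((A ⧸ I) × (A ⧸ J)) (A ⧸ (I ⊔ J))
    (Groth.Agent.Lib.Helper7.CMInf.fMap I J) (Groth.Agent.Lib.Helper7.CMInf.gMap I J)
    (Groth.Agent.Lib.Helper7.CMInf.fMap_injective I J)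
    (Groth.Agent.Lib.Helper7.CMInf.gMap_surjective I J)
    (Groth.Agent.Lib.Helper7.CMInf.exact_fMap_gMap I J)).2.2
  have he1 : (e : ℕ∞) ≤ LocCoh.idealDepth 𝔫 (A ⧸ (I ⊔ J)) + 1 := by
    have h1 : ((e - 1 : ℕ) : ℕ∞) + 1 = e := by
      have : e - 1 + 1 = e := by omega
      exact_mod_cast this
    rw [← h1]
    gcongr
  exact le_trans (le_min (le_trans (le_min hI hJ) hprod) he1) hker

/-- The quotient of `A/I` by a regular element. -/
noncomputable def quotSMulTopEquiv (I : Ideal A) (x : A) :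
    QuotSMulTop x (A ⧸ I) ≃ₗ[A] A ⧸ (I ⊔ Ideal.span {x}) := by
  have h : x • (⊤ : Submodule A (A ⧸ I)) =
      Submodule.map (Submodule.mkQ I) (I ⊔ Ideal.span {x}) := by
    ext y
    rw [Submodule.mem_smul_pointwise_iff_exists, Submodule.mem_map]
    constructor
    · rintro ⟨z, -, rfl⟩
      obtain ⟨c, rfl⟩ := Submodule.mkQ_surjective I z
      refine ⟨x * c, Ideal.mem_sup_right (Ideal.mul_mem_right _ _ (Ideal.subset_span rfl)), ?_⟩
      rw [← smul_eq_mul, map_smul]
    · rintro ⟨t, ht, rfl⟩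
      obtain ⟨i, hi, j, hj, rfl⟩ := Submodule.mem_sup.1 ht
      obtain ⟨c, rfl⟩ := Ideal.mem_span_singleton'.1 hj
      refine ⟨Submodule.mkQ I c, Submodule.mem_top, ?_⟩
      rw [map_add, (Submodule.mkQ_apply I i), (Submodule.Quotient.mk_eq_zero I).2 hi, zero_add,
        ← map_smul, smul_eq_mul, mul_comm]
  exact (Submodule.quotEquivOfEq _ _ h).trans
    (Submodule.quotientQuotientEquivQuotient I (I ⊔ Ideal.span {x}) le_sup_left)

/-- Depth goes up by one when passing from `A/(I + x)` to `A/I`, `x` regular on `A/I`. -/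
theorem depth_regular (I : Ideal A) (x : A) (hx : x ∈ 𝔫) (hreg : IsSMulRegular (A ⧸ I) x)
    (e : ℕ) (h : (e : ℕ∞) ≤ LocCoh.idealDepth 𝔫 (A ⧸ (I ⊔ Ideal.span {x}))) :
    ((e + 1 : ℕ) : ℕ∞) ≤ LocCoh.idealDepth 𝔫 (A ⧸ I) := by
  classical
  by_cases hIM : 𝔫 • (⊤ : Submodule A (A ⧸ I)) = ⊤
  · unfold LocCoh.idealDepth
    rw [if_pos hIM]
    exact le_top
  · rw [← Groth.Agent.S0320.result A 𝔫 (A ⧸ I) hIM x hx hreg,
      idealDepth_congr 𝔫 (quotSMulTopEquiv I x)]
    push_cast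
    gcongr

end General

section Poly

variable {K : Type u} [Field K] {σ : Type}

/-- the all-ones integer weight -/
def wt (σ : Type) : σ → ℤ := fun _ => 1

lemma weight_wt (d : σ →₀ ℕ) :
    Finsupp.weight (wt σ) d = ((d.sum fun _ c => c : ℕ) : ℤ) := by
  simp [Finsupp.weight_apply, Finsupp.sum, wt]

lemma weight_wt_eq_zero (d : σ →₀ ℕ) (h : Finsupp.weight (wt σ) d = 0) : d = 0 := by
  rw [weight_wt] at h
  have h' : (d.sum fun _ c => c) = 0 := by exact_mod_cast h
  ext i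
  by_contra hi
  have : d i ≤ d.sum fun _ c => c := by
    rw [Finsupp.sum]
    exact Finset.single_le_sum (f := fun j => d j) (fun _ _ => Nat.zero_le _)
      (Finsupp.mem_support_iff.2 hi)
  simp only [Finsupp.coe_zero, Pi.zero_apply] at hi
  omega

lemma isWeightedHomogeneous_of_isHomogeneous {f : MvPolynomial σ K} {k : ℕ}
    (hf : f.IsHomogeneous k) : IsWeightedHomogeneous (wt σ) f (k : ℤ) := by
  intro d hd
  have h := hf hd
  rw [weight_wt]
  have : Finsupp.weight (1 : σ → ℕ) d = d.sum fun _ c => c := by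
    simp [Finsupp.weight_apply, Finsupp.sum]
  rw [← this, h]

/-- The irrelevant maximal ideal of a polynomial ring. -/
noncomputable def irr (K : Type u) [Field K] (σ : Type) : Ideal (MvPolynomial σ K) :=
  RingHom.ker (constantCoeff : MvPolynomial σ K →+* K)

instance irr_isMaximal : (irr K σ).IsMaximal :=
  RingHom.ker_isMaximal_of_surjective _ (fun c => ⟨C c, constantCoeff_C _ c⟩)

/-- Generated by homogeneous elements. -/
def HomGen (I : Ideal (MvPolynomial σ K)) : Prop :=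
  ∃ T : Set (MvPolynomial σ K), (∀ f ∈ T, ∃ k : ℕ, f.IsHomogeneous k) ∧ I = Ideal.span T

theorem homGen_of_isHomogeneous {I : Ideal (MvPolynomial σ K)}
    (hI : I.IsHomogeneous (homogeneousSubmodule σ K)) : HomGen I := by
  obtain ⟨T, hT⟩ := (Ideal.IsHomogeneous.iff_exists (𝒜 := homogeneousSubmodule σ K) (I := I)).1 hI
  refine ⟨Subtype.val '' T, ?_, hT⟩
  rintro f ⟨g, -, rfl⟩
  obtain ⟨k, hk⟩ := g.2
  exact ⟨k, hk⟩

theorem isHomogeneous_of_homGen {I : Ideal (MvPolynomial σ K)} (hI : HomGen I) :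
    I.IsHomogeneous (homogeneousSubmodule σ K) := by
  obtain ⟨T, hT, rfl⟩ := hI
  apply Ideal.homogeneous_span
  intro f hf
  obtain ⟨k, hk⟩ := hT f hf
  exact ⟨k, hk⟩

theorem HomGen.inf {I J : Ideal (MvPolynomial σ K)} (hI : HomGen I) (hJ : HomGen J) :
    HomGen (I ⊓ J) :=
  homGen_of_isHomogeneous ((isHomogeneous_of_homGen hI).inf (isHomogeneous_of_homGen hJ))

theorem le_irr {I : Ideal (MvPolynomial σ K)} (hI : HomGen I) (hne : I ≠ ⊤) : I ≤ irr K σ := by
  obtain ⟨T, hT, rfl⟩ := hI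
  rw [Ideal.span_le]
  intro f hf
  obtain ⟨k, hk⟩ := hT f hf
  rw [SetLike.mem_coe]
  unfold irr
  rw [RingHom.mem_ker]
  by_contra hc
  have hc0 : coeff 0 f ≠ 0 := by rwa [← constantCoeff_eq]
  have hk0 : k = 0 := by
    have := hk hc0
    simpa using this.symm
  subst hk0
  have hdeg : f.totalDegree = 0 := Nat.le_zero.1 hk.totalDegree_le
  have hfC : f = C (coeff 0 f) := totalDegree_eq_zero_iff_eq_C.1 hdeg
  apply hne
  rw [Ideal.eq_top_iff_one]
  have h1 : (1 : MvPolynomial σ K) = C (coeff 0 f)⁻¹ * C (coeff 0 f) := by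
    rw [← C_mul, inv_mul_cancel₀ hc0, C_1]
  rw [h1, ← hfC]
  exact Ideal.mul_mem_left _ _ (Ideal.subset_span hf)

theorem map_irr_isMaximal {I : Ideal (MvPolynomial σ K)} (hI : HomGen I) (hne : I ≠ ⊤) :
    ((irr K σ).map (Ideal.Quotient.mk I)).IsMaximal := by
  have hmax : (irr K σ).IsMaximal := inferInstance
  have hle := le_irr hI hne
  rcases Ideal.map_eq_top_or_isMaximal_of_surjective (Ideal.Quotient.mk I)
    Ideal.Quotient.mk_surjective hmax with h | h
  · exfalso
    have := congrArg (Ideal.comap (Ideal.Quotient.mk I)) h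
    rw [Ideal.comap_map_of_surjective _ Ideal.Quotient.mk_surjective, ← RingHom.ker_eq_comap_bot,
      Ideal.mk_ker, Ideal.comap_top, sup_eq_left.2 hle] at this
    exact hmax.ne_top this
  · exact h

/-- A graded quotient of a polynomial ring is Cohen–Macaulay as soon as it is so at the vertex. -/
theorem isCM_of_vertex [Finite σ] {I : Ideal (MvPolynomial σ K)} (hI : HomGen I)
    [hm : ((irr K σ).map (Ideal.Quotient.mk I)).IsPrime]
    (h : LocCoh.IsCohenMacaulayLocalRing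
      (Localization.AtPrime ((irr K σ).map (Ideal.Quotient.mk I)))) :
    LocCoh.IsCohenMacaulayRing (MvPolynomial σ K ⧸ I) := by
  classical
  let 𝒮 : ℤ → Submodule K (MvPolynomial σ K) := weightedHomogeneousSubmodule K (wt σ)
  letI : GradedAlgebra 𝒮 := weightedGradedAlgebra K (wt σ)
  have hIh : I.IsHomogeneous 𝒮 := by
    obtain ⟨T, hT, rfl⟩ := hI
    apply Ideal.homogeneous_span
    intro f hf
    obtain ⟨k, hk⟩ := hT f hf
    exact ⟨(k : ℤ), (mem_weightedHomogeneousSubmodule K (wt σ) _ _).2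
      (isWeightedHomogeneous_of_isHomogeneous hk)⟩
  haveI : GrQuot.IsHomog 𝒮 I := (GrQuot.isHomog_iff 𝒮 I).2 hIh
  refine (GrCMVertex.isCM_iff_vertex (GrAddSub.toAddSub (GrQuot.quot 𝒮 I)) _ ?_).2 h
  intro n y hy hu
  obtain ⟨f, hf, rfl⟩ := (GrQuot.mem_quot_iff 𝒮 I n y).1 hy
  have hfw : IsWeightedHomogeneous (wt σ) f n :=
    (mem_weightedHomogeneousSubmodule K (wt σ) _ _).1 hf
  by_cases hc : constantCoeff f = 0
  · exact Ideal.mem_map_of_mem _ (RingHom.mem_ker.2 hc)
  · exfalso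
    apply hu
    have hc0 : coeff 0 f ≠ 0 := by rwa [← constantCoeff_eq]
    have hn : n = 0 := by
      rw [← hfw hc0]; simp
    have hfC : f = C (constantCoeff f) := by
      ext d
      rw [coeff_C]
      by_cases hd : 0 = d
      · subst hd; simp [constantCoeff_eq]
      · rw [if_neg hd]
        by_contra hne
        have := hfw hne
        rw [hn] at this
        exact hd (weight_wt_eq_zero d this).symm
    rw [hfC]
    exact ((IsUnit.mk0 _ hc).map C).map (Ideal.Quotient.mk I)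

/-- Cohen–Macaulayness from the depth of the irrelevant ideal. -/
theorem isCM_of_depth [Finite σ] {I : Ideal (MvPolynomial σ K)} (hI : HomGen I) (hne : I ≠ ⊤)
    (e : ℕ) (hdim : ringKrullDim (MvPolynomial σ K ⧸ I) ≤ (e : WithBot ℕ∞))
    (hdepth : (e : ℕ∞) ≤ LocCoh.idealDepth (irr K σ) (MvPolynomial σ K ⧸ I)) :
    LocCoh.IsCohenMacaulayRing (MvPolynomial σ K ⧸ I) := by
  haveI hmax := map_irr_isMaximal hI hne
  haveI hm : ((irr K σ).map (Ideal.Quotient.mk I)).IsPrime := hmax.isPrime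
  refine isCM_of_vertex hI ?_
  rw [idealDepth_eq_of_finite (A := MvPolynomial σ K) (B := MvPolynomial σ K ⧸ I)
    (MvPolynomial σ K ⧸ I) (irr K σ)] at hdepth
  have hloc := idealDepth_le_depth_localization (A := MvPolynomial σ K ⧸ I)
    (M := MvPolynomial σ K ⧸ I)
    (Ideal.map (Ideal.Quotient.mk I) (irr K σ)) (Ideal.map (Ideal.Quotient.mk I) (irr K σ)) le_rfl
  rw [depth_congr (locEquiv (Ideal.map (Ideal.Quotient.mk I) (irr K σ)))] at hloc
  have hdepth' : (e : ℕ∞) ≤ LocCoh.depth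
      (Localization.AtPrime (Ideal.map (Ideal.Quotient.mk I) (irr K σ)))
      (Localization.AtPrime (Ideal.map (Ideal.Quotient.mk I) (irr K σ))) := hdepth.trans hloc
  have hdimloc : ringKrullDim (Localization.AtPrime (Ideal.map (Ideal.Quotient.mk I) (irr K σ))) ≤
      e := by
    rw [IsLocalization.AtPrime.ringKrullDim_eq_height (Ideal.map (Ideal.Quotient.mk I) (irr K σ))
      (Localization.AtPrime (Ideal.map (Ideal.Quotient.mk I) (irr K σ)))]
    exact (Ideal.height_le_ringKrullDim_of_ne_top hm.ne_top).trans hdim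
  have hle := depth_le_supportDim
    (A := Localization.AtPrime (Ideal.map (Ideal.Quotient.mk I) (irr K σ)))
    (M := Localization.AtPrime (Ideal.map (Ideal.Quotient.mk I) (irr K σ)))
  rw [Module.supportDim_self_eq_ringKrullDim] at hle
  have h1 : (((e : ℕ) : ℕ∞) : WithBot ℕ∞) ≤
      ((LocCoh.depth (Localization.AtPrime (Ideal.map (Ideal.Quotient.mk I) (irr K σ)))
        (Localization.AtPrime (Ideal.map (Ideal.Quotient.mk I) (irr K σ))) : ℕ∞) : WithBot ℕ∞) :=
    WithBot.coe_le_coe.2 hdepth'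
  have hdimeq : ringKrullDim (Localization.AtPrime (Ideal.map (Ideal.Quotient.mk I) (irr K σ))) =
      (e : WithBot ℕ∞) := le_antisymm hdimloc (h1.trans hle)
  refine ⟨?_⟩
  rw [Module.supportDim_self_eq_ringKrullDim]
  exact le_antisymm (hdimeq.le.trans h1) hle

end Poly

end Groth.Agent.Lib.Helper18.CMGraded
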